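import Mathlib

/-!
# Elements of prime order `r`, `r ^ 2 ∤ |G|` (SPEC-ALT, rows 29 and 30)

* `exists_compl` : `C_G(x) = ⟨x⟩ × H`, `H` consists of the elements of `C_G(x)` of order prime to `r`;
* `exists_norm` : `|G| = |C_G(x)| e k`, `e ∣ r - 1`, `k ≡ 1 (mod r)`;
* `card_mod` : `|K| ≡ 1 (mod r)` for a normal subgroup `K` with `C_K(x) = 1`.
-/

set_option autoImplicit false
set_option linter.unusedSectionVars false

namespace Cfsg.Agent.H161.Sp

open Subgroup

variable {G : Type*} [Group G] [Finite G] {r : ℕ}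

/-- `C_G(x) = ⟨x⟩ × H`. -/
theorem exists_compl (hr : r.Prime) (hsq : ¬ r ^ 2 ∣ Nat.card G) (x : G) (hx : orderOf x = r) :
    ∃ H : Subgroup G, (∀ y ∈ H, x * y = y * x) ∧ ¬ r ∣ Nat.card H ∧
      Nat.card (centralizer ({x} : Set G)) = r * Nat.card H ∧ ∀ y : G, x * y = y * x → ¬ r ∣ orderOf y → y ∈ H := by
  classical
  set C : Subgroup G := centralizer ({x} : Set G) with hC
  have hmem : ∀ {y : G}, y ∈ C ↔ x * y = y * x := by
    intro y
    rw [hC, mem_centralizer_singleton_iff]
    exact eq_comm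
  have hxC : x ∈ C := hmem.2 rfl
  let xC : C := ⟨x, hxC⟩
  have hxc : ∀ y : C, xC * y = y * xC := fun y => Subtype.ext (hmem.1 y.2)
  let P : Subgroup C := zpowers xC
  have hPc : ∀ p ∈ P, ∀ y : C, p * y = y * p := by
    rintro _ ⟨i, rfl⟩ y
    have h1 : Commute (xC ^ i) y := Commute.zpow_left (hxc y) i
    exact h1
  have hPn : P.Normal := ⟨fun p hp g => by rw [← hPc p hp g, mul_assoc, mul_inv_cancel, mul_one]; exact hp⟩
  have hoxC : orderOf xC = r := by rw [← hx]; exact orderOf_mk x hxC
  have hPcard : Nat.card P = r := by rw [Nat.card_zpowers, hoxC]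
  have hdiv : Nat.card C ∣ Nat.card G := card_subgroup_dvd_card C
  have hidx : ¬ r ∣ P.index := by
    rintro ⟨c, hc⟩
    apply hsq
    refine dvd_trans ?_ hdiv
    rw [← card_mul_index P, hPcard, hc]
    exact ⟨c, by ring⟩
  obtain ⟨H', hH'⟩ := exists_right_complement'_of_coprime (N := P)
    (by rw [hPcard]; exact (hr.coprime_iff_not_dvd).2 hidx)
  have hcardC : r * Nat.card H' = Nat.card C := by rw [← hPcard]; exact hH'.card_mul_card
  have hH'card : Nat.card H' = P.index := by
    have h1 := card_mul_index P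
    rw [← hcardC, hPcard] at h1
    exact (Nat.eq_of_mul_eq_mul_left hr.pos h1).symm
  have hcardH : Nat.card (H'.map C.subtype) = Nat.card H' :=
    Nat.card_congr (H'.equivMapOfInjective C.subtype C.subtype_injective).symm.toEquiv
  refine ⟨H'.map C.subtype, ?_, ?_, ?_, ?_⟩
  · rintro _ ⟨y, _, rfl⟩
    exact hmem.1 y.2
  · rw [hcardH, hH'card]
    exact hidx
  · rw [hcardH, hcardC]
  · intro y hy hyr
    let yC : C := ⟨y, hmem.2 hy⟩
    have hoy : orderOf yC = orderOf y := orderOf_mk y (hmem.2 hy)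
    have htop : yC ∈ P ⊔ H' := by rw [hH'.sup_eq_top]; trivial
    obtain ⟨p, hp, h, hh, hph⟩ := Subgroup.mem_sup_of_normal_left.1 htop
    have hcomm : Commute p h := hPc p hp h
    have h1 : p ^ orderOf y * h ^ orderOf y = 1 := by
      rw [← hcomm.mul_pow, hph, ← hoy, pow_orderOf_eq_one]
    have h2' : p ^ orderOf y = (h ^ orderOf y)⁻¹ := mul_eq_one_iff_eq_inv.1 h1
    have h2 : p ^ orderOf y ∈ H' := by
      rw [h2']
      exact inv_mem (pow_mem hh (orderOf y))
    have h3 : p ^ orderOf y = 1 := by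
      have := hH'.disjoint.le_bot (show p ^ orderOf y ∈ P ⊓ H' from ⟨P.pow_mem hp _, h2⟩)
      exact this
    have h4 : p ^ r = 1 := by
      have h5 : p ^ Nat.card P = 1 := by
        have := pow_card_eq_one' (x := (⟨p, hp⟩ : P))
        exact congrArg Subtype.val this
      rwa [hPcard] at h5
    have h5 : p = 1 := by
      have h6 : orderOf p ∣ Nat.gcd r (orderOf y) :=
        Nat.dvd_gcd (orderOf_dvd_of_pow_eq_one h4) (orderOf_dvd_of_pow_eq_one h3)
      rw [(hr.coprime_iff_not_dvd).2 hyr] at h6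
      exact orderOf_eq_one_iff.1 (Nat.dvd_one.1 h6)
    refine ⟨h, hh, ?_⟩
    have h6 : h = yC := by rw [← hph, h5, one_mul]
    rw [h6]
    rfl

/-- a Sylow subgroup of order `r` -/
theorem exists_sylow (hr : r.Prime) (hsq : ¬ r ^ 2 ∣ Nat.card G) (x : G) (hx : orderOf x = r) [Fact r.Prime] :
    ∃ P : Sylow r G, (P : Subgroup G) = zpowers x := by
  have hrG : r ∣ Nat.card G := by rw [← hx]; exact orderOf_dvd_natCard x
  have hG0 : Nat.card G ≠ 0 := Nat.card_pos.ne'
  have hf : (Nat.card G).factorization r = 1 := by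
    have h1 : 1 ≤ (Nat.card G).factorization r := hr.factorization_pos_of_dvd hG0 hrG
    have h2 : ¬ 2 ≤ (Nat.card G).factorization r := fun h => hsq ((hr.pow_dvd_iff_le_factorization hG0).2 h)
    omega
  exact ⟨Sylow.ofCard (zpowers x) (by rw [Nat.card_zpowers, hx, hf, pow_one]), rfl⟩

/-- `|N_G(⟨x⟩)| = |C_G(x)| e`, `e ∣ r - 1`. -/
theorem card_normalizer (hr : r.Prime) (x : G) (hx : orderOf x = r) :
    ∃ e : ℕ, e ∣ r - 1 ∧ Nat.card (normalizer ((zpowers x : Subgroup G) : Set G)) =
      Nat.card (centralizer ({x} : Set G)) * e := by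
  classical
  let P : Subgroup G := zpowers x
  have hP : Nat.card P = r := by rw [Nat.card_zpowers, hx]
  have : Finite P := inferInstance
  have : IsCyclic P := inferInstance
  refine ⟨Nat.card P.normalizerMonoidHom.range, ?_, ?_⟩
  · have h1 := card_subgroup_dvd_card P.normalizerMonoidHom.range
    rwa [IsCyclic.card_mulAut, hP, Nat.totient_prime hr] at h1
  · have h1 : Nat.card P.normalizerMonoidHom.ker * Nat.card P.normalizerMonoidHom.range =
        Nat.card (normalizer (P : Set G)) := by
      have := card_mul_index P.normalizerMonoidHom.ker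
      rwa [index_ker] at this
    have h2 : Nat.card P.normalizerMonoidHom.ker = Nat.card (centralizer ({x} : Set G)) := by
      rw [normalizerMonoidHom_ker]
      have h3 : centralizer (P : Set G) = centralizer ({x} : Set G) := by
        rw [show (P : Set G) = ((zpowers x : Subgroup G) : Set G) from rfl, zpowers_eq_closure, centralizer_closure]
      rw [h3]
      have hle : centralizer ({x} : Set G) ≤ normalizer (P : Set G) := by
        rw [← h3]
        exact centralizer_le_normalizer _
      exact Nat.card_congr (subgroupOfEquivOfLe hle).toEquiv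
    rw [← h2]
    exact h1.symm

/-- **The Sylow congruence.** -/
theorem exists_norm (hr : r.Prime) (hsq : ¬ r ^ 2 ∣ Nat.card G) (x : G) (hx : orderOf x = r) :
    ∃ e k : ℕ, e ∣ r - 1 ∧ k % r = 1 ∧ Nat.card G = Nat.card (centralizer ({x} : Set G)) * e * k := by
  have : Fact r.Prime := ⟨hr⟩
  obtain ⟨P, hP⟩ := exists_sylow hr hsq x hx
  obtain ⟨e, he, hN⟩ := card_normalizer hr x hx
  refine ⟨e, Nat.card (Sylow r G), he, ?_, ?_⟩
  · have h1 := card_sylow_modEq_one r G
    unfold Nat.ModEq at h1
    rw [h1, Nat.mod_eq_of_lt hr.one_lt]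
  · have h5 : (P : Set G) = ((zpowers x : Subgroup G) : Set G) := by rw [← hP]; rfl
    rw [← hN, P.card_eq_index_normalizer, h5]
    exact (card_mul_index _).symm

/-- Fixed point free action on a normal subgroup. -/
theorem card_mod (hr : r.Prime) (x : G) (hx : orderOf x = r) (K : Subgroup G) [K.Normal]
    (hfix : ∀ y ∈ K, x * y = y * x → y = 1) : Nat.card K % r = 1 := by
  have : Fact r.Prime := ⟨hr⟩
  let P : Subgroup G := zpowers x
  have hP : IsPGroup r P := IsPGroup.of_card (n := 1) (by rw [Nat.card_zpowers, hx, pow_one])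
  let act : P →* MulAut K := (MulAut.conjNormal (H := K)).comp P.subtype
  let _ : MulAction P K := MulAction.compHom K act
  have hsmul : ∀ (p : P) (k : K), ((p • k : K) : G) = (p : G) * k * (p : G)⁻¹ := by
    intro p k
    show ((MulAut.conjNormal (p : G) k : K) : G) = _
    rw [MulAut.conjNormal_apply]
  have h1 := hP.card_modEq_card_fixedPoints (p := r) K
  have h2 : MulAction.fixedPoints P K = {1} := by
    ext k
    rw [MulAction.mem_fixedPoints, Set.mem_singleton_iff]
    constructor
    · intro h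
      have h3 := congrArg Subtype.val (h ⟨x, mem_zpowers x⟩)
      rw [hsmul] at h3
      exact Subtype.ext (hfix k k.2 (mul_inv_eq_iff_eq_mul.1 h3))
    · rintro rfl p
      apply Subtype.ext
      rw [hsmul]
      simp
  rw [h2] at h1
  have h3 : Nat.card ({1} : Set K) = 1 := by simp
  rw [h3] at h1
  unfold Nat.ModEq at h1
  rw [h1, Nat.mod_eq_of_lt hr.one_lt]

end Cfsg.Agent.H161.Sp
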