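import Cfsg.Agent.H161.Sp.Cent
import Cfsg.Agent.H267.Sp.SpecAlt

/-!
# The spectrum of the complement in `C_G(x)`; the congruence (SPEC-ALT, rows 29 and 30)
-/

set_option autoImplicit false
set_option linter.unusedSectionVars false

namespace Cfsg.Agent.H161.Sp

open Subgroup Cfsg.Agent.H357.Sp Cfsg.Agent.H267.Sp.SpecAlt

variable {G : Type*} [Group G] [Finite G] {r : ℕ}

theorem W_prime {p : ℕ} (hp : p.Prime) : W p = p := by
  have := W_pow (j := 1) hp one_ne_zero
  rwa [pow_one] at this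

theorem W_prime_mul {p k : ℕ} (hp : p.Prime) (hk : k ≠ 0) (h : ¬ p ∣ k) : W (p * k) = p + W k := by
  rw [W_mul hp.ne_zero hk ((hp.coprime_iff_not_dvd).2 h), W_prime hp]

theorem le_W_of_dvd {p k : ℕ} (hp : p.Prime) (hk : k ≠ 0) (h : p ∣ k) : p ≤ W k := by
  have h1 : p ∈ k.primeFactors := Nat.mem_primeFactors.2 ⟨hp, h, hk⟩
  have h2 : 1 ≤ k.factorization p := hp.factorization_pos_of_dvd hk h
  calc p = p ^ 1 := (pow_one p).symm
    _ ≤ p ^ k.factorization p := Nat.pow_le_pow_right hp.pos h2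
    _ ≤ W k := Finset.single_le_sum (f := fun p => p ^ k.factorization p) (fun _ _ => Nat.zero_le _) h1

theorem even_prime_mul {p k : ℕ} (hp : p.Prime) (hp2 : p ≠ 2) : Even (p * k) ↔ Even k := by
  rw [Nat.even_mul]
  exact ⟨fun h => h.resolve_left fun h' => hp2 (hp.even_iff.1 h'), Or.inr⟩

/-- two elements of order `r` are conjugate up to powers -/
theorem exists_conj (hr : r.Prime) (hsq : ¬ r ^ 2 ∣ Nat.card G) {x w : G} (hx : orderOf x = r) (hw : orderOf w = r) :
    ∃ (g : G) (i : ℤ), x = g * w ^ i * g⁻¹ := by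
  have : Fact r.Prime := ⟨hr⟩
  obtain ⟨P, hP⟩ := exists_sylow hr hsq x hx
  obtain ⟨Q, hQ⟩ := exists_sylow hr hsq w hw
  obtain ⟨g, hg⟩ := MulAction.exists_smul_eq G Q P
  have h1 : x ∈ (P : Subgroup G) := by rw [hP]; exact mem_zpowers x
  rw [← hg, Sylow.coe_subgroup_smul, Subgroup.mem_pointwise_smul_iff_inv_smul_mem, hQ] at h1
  obtain ⟨i, hi⟩ := mem_zpowers_iff.1 h1
  refine ⟨g, i, ?_⟩
  rw [hi]
  simp [MulAut.smul_def, mul_assoc]

/-- **The spectrum of the complement.** -/
theorem spec_compl {ε n : ℕ} (h : Spec ε n G) (hr : r.Prime) (hr2 : r ≠ 2) (hn1 : r ≤ n)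
    (hn2 : n < 2 * r) (hsq : ¬ r ^ 2 ∣ Nat.card G) {x : G} (hx : orderOf x = r) {H : Subgroup G}
    (hc : ∀ y ∈ H, x * y = y * x) (hrH : ¬ r ∣ Nat.card H) (hH : ∀ y : G, x * y = y * x → ¬ r ∣ orderOf y → y ∈ H) :
    Spec ε (n - r) H where
  up := by
    intro y
    have hy0 : orderOf (y : G) ≠ 0 := (orderOf_pos _).ne'
    have hry : ¬ r ∣ orderOf (y : G) := by
      rw [Subgroup.orderOf_coe]
      exact fun h => hrH (h.trans (orderOf_dvd_natCard y))
    have h1 : orderOf (x * (y : G)) = r * orderOf (y : G) := by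
      have h2 : Commute x (y : G) := hc y y.2
      rw [h2.orderOf_mul_eq_mul_orderOf_of_coprime (by rw [hx]; exact (hr.coprime_iff_not_dvd).2 hry), hx]
    have h2 := h.up (x * (y : G))
    rw [h1, W_prime_mul hr hy0 hry] at h2
    simp only [even_prime_mul hr hr2] at h2
    rw [Subgroup.orderOf_coe] at h2
    omega
  down := by
    intro k hk hW
    have hk0 : k ≠ 0 := hk.ne'
    have hrk : ¬ r ∣ k := by
      intro hd
      have := le_W_of_dvd hr hk0 hd
      omega
    obtain ⟨z, hz⟩ := h.down (r * k) (Nat.mul_pos hr.pos hk) (by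
      rw [W_prime_mul hr hk0 hrk]
      simp only [even_prime_mul hr hr2]
      omega)
    have hw : orderOf (z ^ k) = r := by
      rw [orderOf_pow' z hk0, hz, Nat.gcd_eq_right (Dvd.intro_left _ rfl), Nat.mul_div_cancel _ hk]
    obtain ⟨g, i, hg⟩ := exists_conj hr hsq hx hw
    have hzr : orderOf (z ^ r) = k := by
      rw [orderOf_pow' z hr.ne_zero, hz, Nat.gcd_eq_right (Dvd.intro _ rfl), Nat.mul_div_cancel_left _ hr.pos]
    have hy : orderOf (g * z ^ r * g⁻¹) = k := by
      rw [← MulAut.conj_apply, ← hzr]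
      exact orderOf_injective (MulAut.conj g).toMonoidHom (MulAut.conj g).injective _
    have hcomm : x * (g * z ^ r * g⁻¹) = (g * z ^ r * g⁻¹) * x := by
      have h1 : Commute ((z ^ k) ^ i) (z ^ r) := by
        have h2 : Commute (z ^ k) (z ^ r) := (Commute.refl z).pow_pow k r
        exact h2.zpow_left i
      have h3 : (z ^ k) ^ i * z ^ r = z ^ r * (z ^ k) ^ i := h1
      calc x * (g * z ^ r * g⁻¹) = g * ((z ^ k) ^ i * z ^ r) * g⁻¹ := by rw [hg]; group
        _ = g * (z ^ r * (z ^ k) ^ i) * g⁻¹ := by rw [h3]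
        _ = (g * z ^ r * g⁻¹) * x := by rw [hg]; group
    refine ⟨⟨g * z ^ r * g⁻¹, hH _ hcomm (by rw [hy]; exact hrk)⟩, ?_⟩
    exact (Subgroup.orderOf_mk _ _).trans hy

/-- **The congruence.** -/
theorem key_congr (hr : r.Prime) (hsq : ¬ r ^ 2 ∣ Nat.card G) {x : G} (hx : orderOf x = r) {H : Subgroup G}
    (hcard : Nat.card (centralizer ({x} : Set G)) = r * Nat.card H)
    (hH : ∀ y : G, x * y = y * x → ¬ r ∣ orderOf y → y ∈ H) (K : Subgroup G) [K.Normal] (hK : Group.IsSolvable K)
    (hrK : ¬ r ∣ Nat.card K) (S : Subgroup (G ⧸ K)) {s : ℕ} (hS : Nat.card S = r * s)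
    (hHs : ∀ N : Subgroup H, N.Normal → Group.IsSolvable N → N = ⊥) :
    ∃ e, e ∣ r - 1 ∧ (s * S.index) % r = (Nat.card H * e) % r := by
  have hfix : ∀ y ∈ K, x * y = y * x → y = 1 := by
    intro y hy hxy
    have hyr : ¬ r ∣ orderOf y := by
      intro hd
      apply hrK
      refine hd.trans ?_
      have := orderOf_dvd_natCard (⟨y, hy⟩ : K)
      rwa [Subgroup.orderOf_mk] at this
    have hyH := hH y hxy hyr
    have h1 : K.subgroupOf H = ⊥ := by
      refine hHs _ inferInstance ?_
      let f : (K.subgroupOf H) →* K :=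
        { toFun := fun y => ⟨((y : H) : G), y.2⟩
          map_one' := rfl
          map_mul' := fun _ _ => rfl }
      have hfi : Function.Injective f := by
        intro a b hab
        have h0 : ((f a : K) : G) = ((f b : K) : G) := by rw [hab]
        exact Subtype.ext (Subtype.ext h0)
      exact Group.isSolvable_of_isSolvable_injective hfi
    have h2 : (⟨y, hyH⟩ : H) ∈ K.subgroupOf H := hy
    rw [h1, Subgroup.mem_bot] at h2
    exact congrArg Subtype.val h2
  have hKmod := card_mod hr x hx K hfix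
  obtain ⟨e, k, he, hk, hG⟩ := exists_norm hr hsq x hx
  refine ⟨e, he, ?_⟩
  have hG2 : Nat.card G = Nat.card K * (r * s * S.index) := by
    rw [← hS, card_mul_index S, mul_comm]
    exact Subgroup.card_eq_card_quotient_mul_card_subgroup K
  rw [hcard] at hG
  have h3 : Nat.card K * (s * S.index) = Nat.card H * e * k := by
    apply Nat.eq_of_mul_eq_mul_left hr.pos
    calc r * (Nat.card K * (s * S.index)) = Nat.card K * (r * s * S.index) := by ring
      _ = r * Nat.card H * e * k := by rw [← hG2, hG]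
      _ = r * (Nat.card H * e * k) := by ring
  have h4 : (Nat.card K * (s * S.index)) % r = (s * S.index) % r := by
    rw [Nat.mul_mod, hKmod, one_mul, Nat.mod_mod]
  have h5 : (Nat.card H * e * k) % r = (Nat.card H * e) % r := by
    rw [Nat.mul_mod, hk, mul_one, Nat.mod_mod]
  rw [← h4, h3, h5]

/-- The index of a normal subgroup with an isolated self-centralizing prime. -/
theorem index_of_isolated {A : Type*} [Group A] [Finite A] {p : ℕ} (hp : p.Prime) (hsq : ¬ p ^ 2 ∣ Nat.card A)
    (hiso : ∀ x : A, p ∣ orderOf x → orderOf x = p) (S : Subgroup A) [S.Normal] {s : ℕ} (hS : Nat.card S = p * s) :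
    ∃ e : ℕ, S.index * e ∣ p - 1 ∧ s % p = e % p := by
  have : Fact p.Prime := ⟨hp⟩
  have hSA : Nat.card S ∣ Nat.card A := card_subgroup_dvd_card S
  have hsqS : ¬ p ^ 2 ∣ Nat.card S := fun h => hsq (h.trans hSA)
  obtain ⟨xS, hxS⟩ := exists_prime_orderOf_dvd_card' (G := S) p (by rw [hS]; exact Dvd.intro _ rfl)
  have hx : orderOf (xS : A) = p := by rw [Subgroup.orderOf_coe, hxS]
  -- centralizers
  have hcent : ∀ {B : Type _} [Group B] [Finite B] (_ : ¬ p ^ 2 ∣ Nat.card B)
      (_ : ∀ x : B, p ∣ orderOf x → orderOf x = p) (x : B) (_ : orderOf x = p),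
      Nat.card (centralizer ({x} : Set B)) = p := by
    intro B _ _ hsq hiso x hx
    obtain ⟨H, hH1, hH2, hH3, hH4⟩ := exists_compl hp hsq x hx
    have hH : H = ⊥ := by
      rw [eq_bot_iff]
      intro y hy
      have hyp : ¬ p ∣ orderOf y := by
        intro hd
        apply hH2
        refine hd.trans ?_
        have := orderOf_dvd_natCard (⟨y, hy⟩ : H)
        rwa [Subgroup.orderOf_mk] at this
      have h1 : orderOf (x * y) = p * orderOf y := by
        have h2 : Commute x y := hH1 y hy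
        rw [h2.orderOf_mul_eq_mul_orderOf_of_coprime (by rw [hx]; exact (hp.coprime_iff_not_dvd).2 hyp), hx]
      have h2 := hiso (x * y) (by rw [h1]; exact Dvd.intro _ rfl)
      rw [h1] at h2
      have h3 : orderOf y = 1 := by
        have : p * orderOf y = p * 1 := by rw [h2, mul_one]
        exact Nat.eq_of_mul_eq_mul_left hp.pos this
      rw [Subgroup.mem_bot]
      exact orderOf_eq_one_iff.1 h3
    rw [hH3, hH, Subgroup.card_bot, mul_one]
  have hisoS : ∀ x : S, p ∣ orderOf x → orderOf x = p := by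
    intro x hx
    rw [← Subgroup.orderOf_coe] at hx ⊢
    exact hiso _ hx
  obtain ⟨eA, heA, hNA⟩ := card_normalizer hp (xS : A) hx
  obtain ⟨eS, heS, hNS⟩ := card_normalizer hp xS hxS
  obtain ⟨e', k, -, hk, hGS⟩ := exists_norm hp hsqS xS hxS
  rw [hcent hsq hiso _ hx] at hNA
  rw [hcent hsqS hisoS _ hxS] at hNS
  -- the index
  obtain ⟨P, hP⟩ := exists_sylow hp hsqS xS hxS
  have hfr := P.normalizer_sup_eq_top
  have hmap : (P : Subgroup S).map S.subtype = zpowers (xS : A) := by
    rw [hP, MonoidHom.map_zpowers]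
    rfl
  rw [hmap] at hfr
  set Nor : Subgroup A := normalizer ((zpowers (xS : A) : Subgroup A) : Set A) with hNor
  have h1 : S.index = S.relIndex Nor := by
    rw [← Subgroup.relIndex_top_right, ← hfr, Subgroup.relIndex_sup_right]
  have hle : zpowers (xS : A) ≤ S := by
    rw [zpowers_le]
    exact xS.2
  have h2 : Nor.subgroupOf S = normalizer ((zpowers xS : Subgroup S) : Set S) := by
    rw [hNor, subgroupOf_normalizer_eq hle]
    congr 2
    ext y
    rw [mem_subgroupOf, mem_zpowers_iff, mem_zpowers_iff]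
    constructor
    · rintro ⟨i, hi⟩
      exact ⟨i, Subtype.ext (by rw [← hi]; rfl)⟩
    · rintro ⟨i, hi⟩
      exact ⟨i, by rw [← hi]; rfl⟩
  have h3 : Nat.card (S.subgroupOf Nor) = p * eS := by
    rw [← hNS, ← h2]
    have e1 : Nat.card (S.subgroupOf Nor) = Nat.card (S ⊓ Nor : Subgroup A) := by
      rw [← Subgroup.inf_subgroupOf_right]
      exact Nat.card_congr (subgroupOfEquivOfLe inf_le_right).toEquiv
    have e2 : Nat.card (Nor.subgroupOf S) = Nat.card (Nor ⊓ S : Subgroup A) := by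
      rw [← Subgroup.inf_subgroupOf_right]
      exact Nat.card_congr (subgroupOfEquivOfLe inf_le_right).toEquiv
    rw [e1, e2, inf_comm]
  have h4 : p * eS * S.index = p * eA := by
    rw [← hNA, ← h3, h1]
    exact card_mul_index _
  have h5 : S.index * eS = eA := by
    apply Nat.eq_of_mul_eq_mul_left hp.pos
    rw [← h4]
    ring
  refine ⟨eS, by rw [h5]; exact heA, ?_⟩
  -- the congruence in `S`
  have h6 : Nat.card S = Nat.card (normalizer ((zpowers xS : Subgroup S) : Set S)) * Nat.card (Sylow p S) := by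
    have h7 : (P : Set S) = ((zpowers xS : Subgroup S) : Set S) := by rw [← hP]; rfl
    rw [P.card_eq_index_normalizer, h7]
    exact (card_mul_index _).symm
  have h7 := card_sylow_modEq_one p S
  unfold Nat.ModEq at h7
  rw [Nat.mod_eq_of_lt hp.one_lt] at h7
  rw [hS, hNS, mul_assoc] at h6
  have h8 := Nat.eq_of_mul_eq_mul_left hp.pos h6
  rw [h8, Nat.mul_mod, h7, mul_one, Nat.mod_mod]

end Cfsg.Agent.H161.Sp
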