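import Cfsg.Agent.H161.Sp.CentSpec

/-!
# `Fi₂₄'` is not a section of a group with the spectrum of `Alt n`, `Sym n`, `n = 29, 30`
-/

set_option autoImplicit false
set_option linter.unusedSectionVars false

namespace Cfsg.Agent.H161.Sp

open Subgroup Cfsg.Agent.H357.Sp Cfsg.Agent.H267.Sp.SpecAlt

/-- the only solvable normal subgroup of `Alt m` and `Sym m` is trivial -/
theorem solv_normal_alt {m : ℕ} (hm : 5 ≤ m) (N : Subgroup (alternatingGroup (Fin m))) (hN : N.Normal)
    (hs : Group.IsSolvable N) : N = ⊥ := by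
  have hsimple : IsSimpleGroup (alternatingGroup (Fin m)) := by
    refine alternatingGroup.isSimpleGroup ?_
    rwa [Nat.card_eq_fintype_card, Fintype.card_fin]
  rcases hN.eq_bot_or_eq_top with h | h
  · exact h
  · exfalso
    subst h
    have hsol : Group.IsSolvable (alternatingGroup (Fin m)) :=
      Group.isSolvable_of_surjective (f := (Subgroup.topEquiv (G := alternatingGroup (Fin m))).toMonoidHom)
        Subgroup.topEquiv.surjective
    have hab := (IsSimpleGroup.comm_iff_isSolvable (G := alternatingGroup (Fin m))).2 hsol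
    -- the alternating group is not commutative
    have hc : Nat.card (alternatingGroup (Fin m)) = Nat.card (Subgroup.center (alternatingGroup (Fin m))) := by
      have : Subgroup.center (alternatingGroup (Fin m)) = ⊤ := by
        rw [eq_top_iff]
        intro x _
        rw [Subgroup.mem_center_iff]
        exact fun y => hab y x
      rw [this, Subgroup.card_top]
    have hcen : Subgroup.center (alternatingGroup (Fin m)) = ⊥ := by
      refine alternatingGroup.center_eq_bot ?_
      rw [Nat.card_eq_fintype_card, Fintype.card_fin]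
      omega
    rw [hcen, Subgroup.card_bot] at hc
    have : Nontrivial (Fin m) := Fin.nontrivial_iff_two_le.2 (by omega)
    have h2 := two_mul_nat_card_alternatingGroup (α := Fin m)
    rw [hc, Nat.card_perm, Nat.card_eq_fintype_card, Fintype.card_fin] at h2
    have h3 : Nat.factorial 5 ≤ Nat.factorial m := Nat.factorial_le hm
    have h4 : Nat.factorial 5 = 120 := rfl
    omega

theorem solv_normal_perm {m : ℕ} (hm : 5 ≤ m) (N : Subgroup (Equiv.Perm (Fin m))) (hN : N.Normal)
    (hs : Group.IsSolvable N) : N = ⊥ := by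
  classical
  -- the intersection with the alternating group
  let f : (N.subgroupOf (alternatingGroup (Fin m))) →* N :=
    { toFun := fun y => ⟨((y : alternatingGroup (Fin m)) : Equiv.Perm (Fin m)), y.2⟩
      map_one' := rfl
      map_mul' := fun _ _ => rfl }
  have hfi : Function.Injective f := by
    intro a b hab
    have h0 : ((f a : N) : Equiv.Perm (Fin m)) = ((f b : N) : Equiv.Perm (Fin m)) := by rw [hab]
    exact Subtype.ext (Subtype.ext h0)
  have h1 := solv_normal_alt hm (N.subgroupOf (alternatingGroup (Fin m))) inferInstance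
    (Group.isSolvable_of_isSolvable_injective hfi)
  -- a non-trivial element of `N` gives a non-trivial commutator with a 3-cycle
  rw [eq_bot_iff]
  intro x hx
  rw [Subgroup.mem_bot]
  have hxc : x ∈ Subgroup.center (Equiv.Perm (Fin m)) := by
    rw [Subgroup.mem_center_iff]
    have key : ∀ y : Equiv.Perm (Fin m), y * x * y⁻¹ * x⁻¹ = 1 := by
      intro y
      have h2 : y * x * y⁻¹ * x⁻¹ ∈ alternatingGroup (Fin m) := by
        rw [Equiv.Perm.mem_alternatingGroup, map_mul, map_mul, map_mul, Equiv.Perm.sign_inv, Equiv.Perm.sign_inv,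
          mul_comm (Equiv.Perm.sign y), mul_assoc (Equiv.Perm.sign x), Int.units_mul_self, mul_one, Int.units_mul_self]
      have h3 : y * x * y⁻¹ * x⁻¹ ∈ N := N.mul_mem (hN.conj_mem x hx y) (N.inv_mem hx)
      have h4 : (⟨y * x * y⁻¹ * x⁻¹, h2⟩ : alternatingGroup (Fin m)) ∈ N.subgroupOf (alternatingGroup (Fin m)) := h3
      rw [h1, Subgroup.mem_bot] at h4
      exact congrArg Subtype.val h4
    intro y
    have := key y
    rw [mul_inv_eq_one] at this
    exact mul_inv_eq_iff_eq_mul.1 this
  rw [Subgroup.mem_center_iff] at hxc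
  ext1 a
  by_contra hne
  rw [Equiv.Perm.one_apply] at hne
  obtain ⟨c, hc⟩ : ∃ c, c ∉ ({a, x a} : Finset (Fin m)) := by
    by_contra hcon
    push Not at hcon
    have h2 : (Finset.univ : Finset (Fin m)) ⊆ {a, x a} := fun c _ => hcon c
    have h3 := Finset.card_le_card h2
    have h4 : ({a, x a} : Finset (Fin m)).card ≤ 2 := Finset.card_le_two
    rw [Finset.card_univ, Fintype.card_fin] at h3
    omega
  rw [Finset.mem_insert, Finset.mem_singleton, not_or] at hc
  have h5 := Equiv.congr_fun (hxc (Equiv.swap (x a) c)) a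
  rw [Equiv.Perm.mul_apply, Equiv.Perm.mul_apply, Equiv.swap_apply_left,
    Equiv.swap_apply_of_ne_of_ne (Ne.symm hne) (Ne.symm hc.1)] at h5
  exact hc.2 h5

/-- transfer along an isomorphism -/
theorem solv_normal_congr {A B : Type*} [Group A] [Group B] (e : A ≃* B)
    (h : ∀ N : Subgroup B, N.Normal → Group.IsSolvable N → N = ⊥) (N : Subgroup A) (hN : N.Normal)
    (hs : Group.IsSolvable N) : N = ⊥ := by
  have h1 := h (N.map e.toMonoidHom) (hN.map _ e.surjective) (by
    let f : N →* N.map e.toMonoidHom := (e.toMonoidHom.comp N.subtype).codRestrict _ fun y => ⟨y, y.2, rfl⟩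
    refine Group.isSolvable_of_surjective (f := f) ?_
    rintro ⟨_, y, hy, rfl⟩
    exact ⟨⟨y, hy⟩, rfl⟩)
  rw [Subgroup.map_eq_bot_iff_of_injective _ e.injective] at h1
  exact h1

/-- In `W k ≤ 30` the prime 29 occurs alone. -/
theorem eq_of_dvd {k : ℕ} (hk : k ≠ 0) (h : 29 ∣ k) (hW : W k ≤ 30) : k = 29 := by
  have h29 : Nat.Prime 29 := by norm_num
  obtain ⟨c, hc⟩ := h
  have hc0 : c ≠ 0 := by rintro rfl; omega
  by_cases hd : 29 ∣ c
  · exfalso
    have h1 : 2 ≤ k.factorization 29 := by
      rw [← h29.pow_dvd_iff_le_factorization hk]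
      obtain ⟨d, rfl⟩ := hd
      exact ⟨d, by rw [hc]; ring⟩
    have h2 : 29 ∈ k.primeFactors := Nat.mem_primeFactors.2 ⟨h29, Dvd.intro _ hc.symm, hk⟩
    have h3 : 29 ^ 2 ≤ W k := calc 29 ^ 2 ≤ 29 ^ k.factorization 29 := Nat.pow_le_pow_right (by norm_num) h1
      _ ≤ W k := Finset.single_le_sum (f := fun p => p ^ k.factorization p) (fun _ _ => Nat.zero_le _) h2
    omega
  · rw [hc, W_prime_mul h29 hc0 hd] at hW
    by_cases h1 : c = 1
    · rw [hc, h1]
    · exfalso
      obtain ⟨p, hp, hpc⟩ := Nat.exists_prime_and_dvd h1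
      have := le_W_of_dvd hp hc0 hpc
      have := hp.two_le
      omega

/-- Recognizability hypothesis -/
def Rec (ε m : ℕ) : Prop :=
  ∀ (H : Type) [Group H] [Finite H], Spec ε m H →
    (ε = 2 ∧ Nonempty (H ≃* alternatingGroup (Fin m))) ∨ (ε = 0 ∧ Nonempty (H ≃* Equiv.Perm (Fin m)))

/-- the order of `Fi₂₄'` -/
def oF : ℕ := 1255205709190661721292800

theorem num_chk : ([1, 2].all fun c => ([1, 2, 4, 8, 16].all fun e =>
    ([Nat.factorial 12 / 2, Nat.factorial 12, Nat.factorial 13 / 2, Nat.factorial 13].all fun h =>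
      !(Nat.beq ((oF / 17 * c) % 17) ((h * e) % 17))))) = true := by decide +kernel

theorem dvd_sixteen {e : ℕ} (h : e ∣ 17 - 1) : e ∈ [1, 2, 4, 8, 16] := by
  have h1 : e ≤ 16 := Nat.le_of_dvd (by norm_num) h
  have h2 : ∀ e ≤ 16, e ∣ 17 - 1 → e ∈ [1, 2, 4, 8, 16] := by decide
  exact h2 e h1 h

theorem false_of_fi24 {ε n : ℕ} (hn : n = 29 ∨ n = 30) {G : Type} [Group G] [Finite G] (h : Spec ε n G)
    (hrec : Rec ε (n - 17)) (K : Subgroup G) [K.Normal] (hK : Group.IsSolvable K) (S : Subgroup (G ⧸ K)) [S.Normal]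
    (hS : Nat.card S = oF) (h17K : ¬ 17 ∣ Nat.card K) (h17S : ¬ 17 ∣ S.index)
    (h29S : ¬ 29 ∣ S.index) : False := by
  have h17 : Nat.Prime 17 := by norm_num
  have h29 : Nat.Prime 29 := by norm_num
  have hGK : Nat.card G = Nat.card (G ⧸ K) * Nat.card K := Subgroup.card_eq_card_quotient_mul_card_subgroup K
  have hA : Nat.card (G ⧸ K) = oF * S.index := by rw [← hS]; exact (card_mul_index S).symm
  -- the square of 17
  have hsq : ¬ 17 ^ 2 ∣ Nat.card G := by
    rw [hGK, hA]
    intro hd
    have h1 : (17 ^ 2).Coprime (Nat.card K) := Nat.Coprime.pow_left 2 ((h17.coprime_iff_not_dvd).2 h17K)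
    have h2 : (17 ^ 2).Coprime S.index := Nat.Coprime.pow_left 2 ((h17.coprime_iff_not_dvd).2 h17S)
    have h3 := h2.dvd_of_dvd_mul_right (h1.dvd_of_dvd_mul_right hd)
    revert h3
    decide +kernel
  have hsq29 : ¬ 29 ^ 2 ∣ Nat.card (G ⧸ K) := by
    rw [hA]
    intro hd
    have h2 : (29 ^ 2).Coprime S.index := Nat.Coprime.pow_left 2 ((h29.coprime_iff_not_dvd).2 h29S)
    have h3 := h2.dvd_of_dvd_mul_right hd
    revert h3
    decide +kernel
  -- the index of `S`
  have hiso : ∀ x : G ⧸ K, 29 ∣ orderOf x → orderOf x = 29 := by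
    intro x hx
    obtain ⟨y, rfl⟩ := QuotientGroup.mk'_surjective K x
    have h1 : orderOf (QuotientGroup.mk' K y) ∣ orderOf y := orderOf_map_dvd _ y
    have h2 := h.up y
    have h3 := eq_of_dvd (orderOf_pos y).ne' (hx.trans h1) (by omega)
    rw [h3] at h1
    exact Nat.dvd_antisymm h1 hx
  obtain ⟨e, he, he2⟩ := index_of_isolated h29 hsq29 hiso S (s := oF / 29) (by rw [hS]; decide +kernel)
  have he14 : e = 14 := by
    have h1 : e ≤ 28 := Nat.le_of_dvd (by norm_num) ((Dvd.intro_left _ rfl).trans he)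
    have h2 : oF / 29 % 29 = 14 := by decide +kernel
    rw [h2, Nat.mod_eq_of_lt (by omega)] at he2
    exact he2.symm
  have hc : S.index = 1 ∨ S.index = 2 := by
    rw [he14] at he
    have h1 : S.index * 14 ∣ 2 * 14 := he
    have h2 : S.index ∣ 2 := Nat.dvd_of_mul_dvd_mul_right (by norm_num) h1
    exact (Nat.dvd_prime Nat.prime_two).1 h2
  -- an element of order 17
  obtain ⟨x, hx⟩ := h.down 17 (by norm_num) (by
    rw [W_prime h17, if_neg (by decide)]
    omega)
  obtain ⟨H, hH1, hH2, hH3, hH4⟩ := exists_compl h17 hsq x hx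
  have hsp := spec_compl h h17 (by norm_num) (by omega) (by omega) hsq hx hH1 hH2 hH4
  have hcard : Nat.card H ∈ [Nat.factorial 12 / 2, Nat.factorial 12, Nat.factorial 13 / 2, Nat.factorial 13] ∧
      ∀ N : Subgroup H, N.Normal → Group.IsSolvable N → N = ⊥ := by
    have h5 : 5 ≤ n - 17 := by omega
    rcases hrec H hsp with ⟨-, ⟨f⟩⟩ | ⟨-, ⟨f⟩⟩
    · refine ⟨?_, solv_normal_congr f (solv_normal_alt h5)⟩
      have : Nontrivial (Fin (n - 17)) := Fin.nontrivial_iff_two_le.2 (by omega)
      have h2 := two_mul_nat_card_alternatingGroup (α := Fin (n - 17))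
      rw [Nat.card_perm, Nat.card_eq_fintype_card (α := Fin _), Fintype.card_fin] at h2
      rw [Nat.card_congr f.toEquiv]
      have h6 : Nat.card (alternatingGroup (Fin (n - 17))) = Nat.factorial (n - 17) / 2 := by omega
      rw [h6]
      rcases hn with rfl | rfl <;> simp
    · refine ⟨?_, solv_normal_congr f (solv_normal_perm h5)⟩
      rw [Nat.card_congr f.toEquiv, Nat.card_perm, Nat.card_eq_fintype_card, Fintype.card_fin]
      rcases hn with rfl | rfl <;> simp
  obtain ⟨e', he', hcong⟩ := key_congr h17 hsq hx hH3 hH4 K hK h17K S (s := oF / 17) (by rw [hS]; decide +kernel)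
    hcard.2
  have h1 := num_chk
  rw [List.all_eq_true] at h1
  have h2 := h1 S.index (by rcases hc with h | h <;> rw [h] <;> simp)
  rw [List.all_eq_true] at h2
  have h3 := h2 e' (dvd_sixteen he')
  rw [List.all_eq_true] at h3
  have h4 := h3 _ hcard.1
  rw [Bool.not_eq_true', ← Bool.not_eq_true, Nat.beq_eq] at h4
  exact h4 hcong

end Cfsg.Agent.H161.Sp
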